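/-
Three classes of subgroups of `²E₆(2)`, permuted by a diagonal automorphism.
-/
import Cfsg.Agent.H80E.Emb
import Cfsg.Agent.H64.OutE6
import Cfsg.Prelude.Def_KGroupFacts

set_option autoImplicit false

namespace Cfsg.Agent.H80E

open Cfsg.Spor Cfsg.Lie Cfsg.Agent.H37 Cfsg.Agent.H40 Cfsg.Agent.H64

/-- a subgroup with trivial centraliser and two outer automorphisms has three non-conjugate images
under an automorphism of outer order three -/
theorem three {Γ X : Type*} [Group Γ] [Group X] {G : Subgroup Γ} (ι : X →* G)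
    (hι : Function.Injective ι) (hX : Nat.card (Out X) = 2)
    (hc : ∀ M : Γ, (∀ x, Commute M (ι x)) → M ∈ Subgroup.center Γ) (δ : MulAut G) (D : Γ)
    (hD : ∀ g : G, (δ g : Γ) = D * g * D⁻¹) (hn : ∀ k : ℕ, δ ^ k ∈ Inn G → 3 ∣ k) :
    ∃ H : Fin 3 → Subgroup G, (∀ i, Nonempty (H i ≃* X)) ∧
      ∀ i j, i ≠ j → ∀ g : G, (H i).map (MulAut.conj g).toMonoidHom ≠ H j := by
  refine ⟨fun i => ι.range.map (δ ^ (i : ℕ)).toMonoidHom, fun i =>
    ⟨(((δ ^ (i : ℕ)).subgroupMap ι.range).symm.trans (MonoidHom.ofInjective hι).symm)⟩,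
    fun i j hne g e => hne ?_⟩
  let A : Subgroup (MulAut G) :=
    { carrier := {σ | ∃ S : Γ, ∀ g : G, (σ g : Γ) = S * g * S⁻¹}
      one_mem' := ⟨1, fun g => by simp⟩
      mul_mem' := fun ⟨S, hS⟩ ⟨T, hT⟩ => ⟨S * T, fun g => by
        rw [MulAut.mul_apply, hS, hT]; group⟩
      inv_mem' := fun {σ} ⟨S, hS⟩ => ⟨S⁻¹, fun g => by
        have := hS (σ⁻¹ g)
        rw [MulAut.apply_inv_self] at this
        rw [this]; group⟩ }
  have hδ : δ ∈ A := ⟨D, hD⟩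
  let σ := (δ ^ (j : ℕ))⁻¹ * (MulAut.conj g * δ ^ (i : ℕ))
  obtain ⟨S, hS⟩ : σ ∈ A := mul_mem (inv_mem (pow_mem hδ _)) (mul_mem ⟨g, fun _ => rfl⟩ (pow_mem hδ _))
  have hσ : ι.range.map σ.toMonoidHom = ι.range := by
    have := congrArg (Subgroup.map (δ ^ (j : ℕ))⁻¹.toMonoidHom) e
    rw [Subgroup.map_map, Subgroup.map_map, Subgroup.map_map] at this
    refine this.trans ?_
    rw [show (δ ^ (j : ℕ))⁻¹.toMonoidHom.comp (δ ^ (j : ℕ)).toMonoidHom = MonoidHom.id _ from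
      MonoidHom.ext fun x => MulAut.inv_apply_self _ _ _, Subgroup.map_id]
  let θ : MulAut X := (MonoidHom.ofInjective hι).trans (((σ.subgroupMap ι.range).trans
    (MulEquiv.subgroupCongr hσ)).trans (MonoidHom.ofInjective hι).symm)
  have hθ : ∀ x, ι (θ x) = σ (ι x) := fun x => MonoidHom.apply_ofInjective_symm hι _
  obtain ⟨h, hh⟩ : θ ^ 2 ∈ Inn X := (QuotientGroup.eq_one_iff _).1 (by
    rw [QuotientGroup.mk_pow, ← hX, pow_card_eq_one'])
  have hM := hc ((ι h : Γ)⁻¹ * (S * S)) fun x => by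
    have := congrArg (fun t : MulAut X => (ι (t x) : Γ)) hh
    simp only [MulAut.conj_apply, map_mul, map_inv, sq, MulAut.mul_apply, hθ, hS, Subgroup.coe_mul,
      Subgroup.coe_inv] at this
    change _ = _
    rw [show (ι h : Γ)⁻¹ * (S * S) * ι x = (ι h : Γ)⁻¹ * (S * (S * ι x * S⁻¹) * S⁻¹) * (S * S) by group,
      ← this]; group
  have h1 : σ ^ 2 ∈ Inn G := ⟨ι h, MulEquiv.ext fun x => Subtype.ext (by
    have := (Subgroup.mem_center_iff.1 hM x).symm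
    rw [sq, MulAut.mul_apply, hS, hS, show S * (S * x * S⁻¹) * S⁻¹ =
      ι h * ((ι h : Γ)⁻¹ * (S * S) * x) * S⁻¹ * S⁻¹ by group, this]
    simp [mul_assoc])⟩
  have h2 := (QuotientGroup.eq_one_iff _).2 h1
  have h3 : ((MulAut.conj g : MulAut G) : Out G) = 1 := (QuotientGroup.eq_one_iff _).2 ⟨g, rfl⟩
  simp only [σ, QuotientGroup.mk_pow, QuotientGroup.mk_mul, QuotientGroup.mk_inv, h3, one_mul] at h2
  have h4 : (δ : Out G) ^ ((-(j : ℤ) + i) * 2).natAbs = 1 := by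
    rw [pow_natAbs_eq_one, zpow_mul, zpow_add, zpow_neg, zpow_natCast, zpow_natCast]
    exact_mod_cast h2
  have := hn _ ((QuotientGroup.eq_one_iff _).1 (by rw [QuotientGroup.mk_pow, h4]))
  omega

theorem three_e6 {K : Type*} [Field K] [Fintype K] (hK : Fintype.card K = 4) {X : Type*} [Group X]
    (κ : X →* Fi22) (hκ : Function.Injective κ) (hX : Nat.card (Out X) = 2)
    (hr : ∀ x : Fi22.Gen, x ≠ .a → PresentedGroup.of x ∈ κ.range) :
    ∃ H : Fin 3 → Subgroup (twistedE6 K 2), (∀ i, Nonempty (H i ≃* X)) ∧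
      ∀ i j, i ≠ j → ∀ g : twistedE6 K 2, (H i).map (MulAut.conj g).toMonoidHom ≠ H j := by
  have : Fact (Nat.Prime 2) := ⟨Nat.prime_two⟩
  have hK' : Fintype.card K = 2 ^ 2 := hK
  have : CharP K 2 := charP_of_card_eq_prime_pow hK'
  obtain ⟨φ, hφ⟩ := exists_frob Nat.prime_two.isPrimePow hK'
  have h2 := frob_iter_self hK' hφ
  obtain ⟨ω, hω⟩ := IsCyclic.exists_ofOrder_eq_natCard (α := Kˣ)
  rw [Nat.card_units, Nat.card_eq_fintype_card, hK] at hω
  have h3 : ∀ t : Kˣ, t ^ 3 = 1 := fun t => by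
    have := pow_card_eq_one' (x := t)
    rwa [Nat.card_units, Nat.card_eq_fintype_card, hK] at this
  have hω' : (ω : K) ^ 2 + ω + 1 = 0 := by
    have h5 : (ω : K) ^ 3 = 1 := by rw [← Units.val_pow_eq_pow_val, h3, Units.val_one]
    refine (mul_eq_zero.1 (show ((ω : K) - 1) * _ = 0 by linear_combination h5)).resolve_left
      fun h => ?_
    rw [show ω = 1 from Units.ext (sub_eq_zero.1 h), orderOf_one] at hω
    omega
  have he := exists_emb (ZMod.castHom dvd_rfl K) hω'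
  rw [← Fix_E6 h2 hφ] at he ⊢
  obtain ⟨ι, hι, hc⟩ := he
  let a : Fin 4 → Kˣ := fun j => if j = 3 then ω else 1
  have ha : ∀ j, Fj CE6 φ j (a j) := fun j => by
    by_cases h : j = 3
    · subst h; exact h2 _
    · simp only [a, if_neg h]; exact Function.iterate_fixed (map_one φ) _
  obtain ⟨χ, hχ, hb⟩ := e6_chi φ a
  have h1 : ∀ j, ∀ r ∈ (CE6.word j).map chevE6.simple, r < chevE6.nroots := fun j r hr =>
    ((orbE6 j).2.1.1 r ((orbE6 j).map_eq ▸ hr)).1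
  have hx : ∀ j t, dfHom chevE6 χ 1 (ox isChev_E6 CE6 φ j t) = ox isChev_E6 CE6 φ j (a j * t) :=
    fun j => dfHom_ow hχ 1 (h1 j) (hb j)
  have hy : ∀ j t, dfHom chevE6 χ 1 (oy isChev_E6 CE6 φ j t) = oy isChev_E6 CE6 φ j ((a j : K)⁻¹ * t) :=
    fun j => dfHom_ow hχ 1 (fun r hr => by
      obtain ⟨s, hs, rfl⟩ := List.mem_map.1 hr
      exact Chev.neg_lt (h1 j s hs)) ((hb j).neg hχ (h1 j))
  have hF : ∀ j {s t : K}, Fj CE6 φ j s → Fj CE6 φ j t → Fj CE6 φ j (s * t) ∧ Fj CE6 φ j (s⁻¹ * t) :=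
    fun j s t hs ht => by
      simp only [Fj, ← RingHom.coe_pow] at hs ht ⊢
      simp only [map_mul, map_inv₀, hs, ht, and_self]
  have h4 : (TE φ).mt.Fix ≤ (TE φ).mt.Fix.comap (dfHom chevE6 χ 1) :=
    (Fix_le_G0_E6 h2).trans ((TE φ).G0_le_ox (TE_e φ) orbE6 fun j t ht => by
      rw [Subgroup.mem_comap, Subgroup.mem_comap, hx, hy, (TE φ).ox_mem_Fix (TE_e φ) (orbE6 j),
        (TE φ).oy_mem_Fix (TE_e φ) (orbE6 j)]
      exact hF j (ha j) ht)
  refine three (ι.comp κ) (hι.comp hκ) hX (fun M hM => hc M fun x hx => ?_)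
    (resAut _ (dfHom_injective χ 1) h4) (diagGL chevE6 χ) (fun g => rfl) fun k ⟨x, hk⟩ => ?_
  · obtain ⟨y, hy⟩ := hr x hx
    exact hy ▸ hM y
  have hp : ∀ n (g : (TE φ).mt.Fix), ((resAut _ (dfHom_injective χ 1) h4 ^ n) g : GL chevE6.Idx K) =
      (dfHom chevE6 χ 1)^[n] g := fun n => by
    induction n with
    | zero => exact fun _ => rfl
    | succ n ih => exact fun g => by rw [pow_succ, MulAut.mul_apply, ih]; rfl
  have h0 : ∀ j, Fj CE6 φ j 1 := fun j => Function.iterate_fixed (map_one φ) _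
  have k1 : ∀ j, x.1 * ox isChev_E6 CE6 φ j 1 * x.1⁻¹ = ox isChev_E6 CE6 φ j (a j ^ k) := fun j => by
    refine (congrArg (fun t : MulAut (TE φ).mt.Fix => (t ⟨_, ((TE φ).ox_mem_Fix (TE_e φ)
      (orbE6 j)).2 (h0 j)⟩ : GL chevE6.Idx K)) hk).trans ((hp _ _).trans ?_)
    generalize k = m
    induction m with
    | zero => simp
    | succ n ih => rw [Function.iterate_succ_apply', ih, hx, pow_succ']
  have k2 : ∀ j, x.1 * oy isChev_E6 CE6 φ j 1 * x.1⁻¹ = oy isChev_E6 CE6 φ j ((a j : K)⁻¹ ^ k) := fun j => by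
    refine (congrArg (fun t : MulAut (TE φ).mt.Fix => (t ⟨_, ((TE φ).oy_mem_Fix (TE_e φ)
      (orbE6 j)).2 (h0 j)⟩ : GL chevE6.Idx K)) hk).trans ((hp _ _).trans ?_)
    generalize k = m
    induction m with
    | zero => simp
    | succ n ih => rw [Function.iterate_succ_apply', ih, hy, pow_succ']
  have hH := mem_H_of_conj_one (e6_w0 φ) x.2
    (fun j => ⟨_, (TE φ).ox_mem_XJ (orbE6 j) _, fun h => by
      simpa using ox_inj (orbE6 j) (h.trans (ox_zero (orbE6 j)).symm),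
      k1 j ▸ (TE φ).mt.XJ_le j ((TE φ).ox_mem_XJ (orbE6 j) _)⟩)
    fun j => ⟨_, oy_mem_YJ _ (TE_e φ) (orbE6 j) (h0 j), oy_ne (orbE6 j) one_ne_zero,
      k2 j ▸ (TE φ).mt_V ▸ oy_mem_V (orbE6 j) _⟩
  obtain ⟨⟨⟨s, u⟩, t, v⟩, hk⟩ : x.1 ∈ (eh φ).range := range_eh h2 ▸ ⟨hH, x.2⟩
  have k3 := fun j => ox_inj (orbE6 j)
    ((conj_ox _ (TE_e φ) (orbE6 j) (hk ▸ isH_eh φ _) x.2 (h0 j)).symm.trans (k1 j))
  have k4 := k3 2
  have k5 := k3 3
  rw [show chevE6.simple (CE6.word 2).headI = 42 from rfl, (chiE6 _).2.2.1] at k4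
  rw [show chevE6.simple (CE6.word 3).headI = 56 from rfl, (chiE6 _).1] at k5
  have hv : (v : Kˣ) = 1 := Units.ext (by
    have := (mem_fixU φ).1 v.2
    rwa [hφ, sq, mul_right_eq_self₀, or_iff_left (Units.ne_zero _)] at this)
  have k6 : u ^ 2 = s := by
    rw [← div_eq_one, Units.ext_iff]
    simpa [a, ec, hv] using k4
  have k7 : 1 = ω ^ k := by
    rw [Units.ext_iff]
    simpa [a, ec, ← k6, ← pow_mul, pow_succ u 3, h3] using k5
  exact (show orderOf ω = 3 from hω) ▸ orderOf_dvd_of_pow_eq_one k7.symm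

end Cfsg.Agent.H80E
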